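import Groth.Agent.DepthPt5.Comm
import Groth.Agent.LocCohLib.Edge
import Groth.Agent.LocAcycLib.LARestr
import Groth.Agent.EtFound.GermSupp
import Groth.Agent.EtFound.PullGerm
import Groth.Agent.EtLim8.Colim
import Groth.Agent.S0538
import Groth.Prelude.Def_EtDepth

/-! depth along a retrocompact closed subset is tested pointwise -/

set_option autoImplicit false
set_option linter.unusedSectionVars false
set_option linter.style.haveILetI false
set_option backward.isDefEq.respectTransparency false
set_option backward.isDefEq.respectTransparency.types false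

universe u

open CategoryTheory CategoryTheory.Limits AlgebraicGeometry Opposite IsLocalRing

noncomputable section

namespace Groth.Agent.DepthPt5

open RpushStalk Groth.Agent.LocCohLib Groth.Agent.EtFound Groth.Agent.EtLim8

attribute [local instance] EtFound.pull_preservesFiniteLimits

theorem germ_unit_eq_zero_iff {X Y : Scheme.{u}} (f : X ⟶ Y) (G : EtCoh.Ab Y) {V : Y.Etale} (s : G.obj.obj (op V))
    {Ω : Type u} [Field Ω] [IsSepClosed Ω] {ξ : Spec (CommRingCat.of Ω) ⟶ X}
    (t : (Scheme.pointSmallEtale ξ).fiber.obj ((EtCoh.bc f).obj V)) :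
    (Scheme.pointSmallEtale ξ).toPresheafFiber _ t ((EtCoh.pull f).obj G).obj
        (((EtCoh.pullPushAdj f).unit.app G).hom.app (op V) s) = 0 ↔
      (Scheme.pointSmallEtale (ξ ≫ f)).toPresheafFiber V (bcFiberEquiv f ξ V t) G.obj s = 0 := by
  let i := (sheafFiberPullIso (A := AddCommGrpCat.{u + 1}) f ξ).app G
  have e := ConcreteCategory.congr_hom (sheafFiberPullIso_germ (A := AddCommGrpCat.{u + 1}) f ξ G V t) s
  constructor
  · intro h0
    refine (ConcreteCategory.bijective_of_isIso i.inv).1 ?_
    exact (e.trans h0).trans (map_zero _).symm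
  · intro h0
    exact e.symm.trans ((congrArg i.inv h0).trans (map_zero _))

theorem eq_zero_of_germs {X : Scheme.{u}} {F : EtCoh.Ab X} {V : X.Etale} (s : F.obj.obj (op V))
    (h : ∀ (Ω : Type u) [Field Ω] [IsSepClosed Ω] (ξ : Spec (CommRingCat.of Ω) ⟶ X)
      (z : (Scheme.pointSmallEtale ξ).fiber.obj V), (Scheme.pointSmallEtale ξ).toPresheafFiber V z F.obj s = 0) :
    s = 0 := by
  refine eq_zero_of_nullLocus fun x => ?_
  obtain ⟨Ω, _, _, ξ, z, hz⟩ := exists_algClosed_point V x
  have h0 := h Ω ξ z
  rw [← map_zero ((Scheme.pointSmallEtale ξ).toPresheafFiber V z F.obj).hom] at h0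
  obtain ⟨W, f, v, hv, hf⟩ := ((Scheme.pointSmallEtale ξ).toPresheafFiber_eq_iff' V z _ _).1 h0
  exact ⟨W, f, ptOf v, by rw [← ptOf_map, hv]; exact hz, hf.trans (map_zero _)⟩

/-- a closed set has a point which no other point of the set generalizes -/
theorem exists_max_point {α : Type*} [TopologicalSpace α] [QuasiSober α] [T0Space α] {S : Set α} (hS : IsClosed S)
    (hne : S.Nonempty) : ∃ η ∈ S, ∀ w ∈ S, w ⤳ η → w = η := by
  obtain ⟨x, hx⟩ := hne
  haveI := hS.isClosedEmbedding_subtypeVal.quasiSober
  let C := irreducibleComponent (⟨x, hx⟩ : S)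
  have hC : IsIrreducible C := isIrreducible_irreducibleComponent
  let η : S := hC.genericPoint
  have hη : IsGenericPoint η C := by
    have := hC.isGenericPoint_genericPoint_closure
    rwa [isClosed_irreducibleComponent.closure_eq] at this
  refine ⟨η.1, η.2, fun w hw hwη => ?_⟩
  have h1 : (⟨w, hw⟩ : S) ⤳ η := (subtype_specializes_iff (⟨w, hw⟩ : S) η).2 hwη
  have hsub : C ⊆ closure {(⟨w, hw⟩ : S)} := by
    rw [← hη.def]
    exact specializes_iff_closure_subset.1 h1
  have heq : closure {(⟨w, hw⟩ : S)} = C :=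
    eq_irreducibleComponent isPreirreducible_singleton.closure hsub
  have h2 : η ⤳ (⟨w, hw⟩ : S) := hη.specializes (heq ▸ subset_closure rfl)
  exact congrArg Subtype.val (h1.antisymm h2).eq

variable {X U : Scheme.{u}} (j : U ⟶ X) [IsOpenImmersion j] [QuasiCompact j]

section Local

variable {R : Type u} [CommRing R] {h : Spec (CommRingCat.of R) ⟶ X}

theorem isZero_secSupp_of_univ {X' U' : Scheme.{u}} (j' : U' ⟶ X') [IsOpenImmersion j']
    (hr : Set.range j'.base = Set.univ) (G : EtCoh.Ab X') : IsZero ((EtDual.secSupp j').obj G) := by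
  haveI : Surjective j' := ⟨Set.range_eq_univ.1 hr⟩
  haveI := EtFound.pullback_faithful (A := AddCommGrpCat.{u + 1}) j'
  haveI := LocCohLib.pull_additive j'
  have h0 : kernel.ι (EtDual.unitApp j' G) = 0 := (EtCoh.pull j').map_injective
    (((comp_unitApp_eq_zero_iff j' _).1 (kernel.condition _)).trans ((EtCoh.pull j').map_zero _ _).symm)
  rw [IsZero.iff_id_eq_zero]
  exact (cancel_mono (kernel.ι (EtDual.unitApp j' G))).1 (by rw [h0]; simp)

theorem isZero_pull_locCoh_of_univ (D : Model X R h) (hr : Set.range (pullback.fst h j).base = Set.univ)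
    (F : EtCoh.Ab X) (p : ℕ) : IsZero ((EtCoh.pull h).obj ((EtDual.locCoh j p).obj F)) := by
  obtain ⟨e⟩ := nonempty_locCoh_pull_iso j D p
  refine IsZero.of_iso ?_ (e.app F)
  let I := injectiveResolution ((EtCoh.pull h).obj F)
  refine IsZero.of_iso ?_ (I.isoRightDerivedObj (EtDual.secSupp (pullback.fst h j)) p)
  exact ShortComplex.isZero_homology_of_isZero_X₂ _ (isZero_secSupp_of_univ _ hr _)

variable [IsLocalRing R]

theorem range_subset_punctured (hy : h.base (closedPoint R) ∉ Set.range j.base) :
    Set.range (pullback.fst h j).base ⊆ Set.range (FEt.puncturedSpec R).ι.base := by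
  rintro _ ⟨a, rfl⟩
  rw [Scheme.Opens.range_ι]
  intro ha
  refine hy ⟨(pullback.snd h j).base a, ?_⟩
  have e : (pullback.fst h j).base a = closedPoint R := ha
  rw [← e, ← Scheme.Hom.comp_apply, ← Scheme.Hom.comp_apply, pullback.condition]

theorem depthGE_pull (D : Model X R h) (hy : h.base (closedPoint R) ∉ Set.range j.base) (F : EtCoh.Ab X) (n : ℕ)
    (hF : EtDepth.DepthGE j F n) :
    EtDepth.DepthGE (FEt.puncturedSpec R).ι ((EtCoh.pull h).obj F) n := by
  refine depthGE_mono (pullback.fst h j) _ (range_subset_punctured j hy) _ n fun p hp => ?_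
  obtain ⟨e⟩ := nonempty_locCoh_pull_iso j D p
  haveI := LocCohLib.pull_additive h
  exact ((EtCoh.pull h).map_isZero (hF p hp)).of_iso (e.app F).symm

theorem mono_unit_pull_locCoh (D : Model X R h) (F : EtCoh.Ab X) (p : ℕ)
    (hlow : ∀ q, q < p → IsZero ((EtDual.locCoh j q).obj F))
    (hy : h.base (closedPoint R) ∈ Set.range j.base ∨
      IsZero ((EtDual.locCoh (FEt.puncturedSpec R).ι p).obj ((EtCoh.pull h).obj F))) :
    Mono (EtDual.unitApp (FEt.puncturedSpec R).ι ((EtCoh.pull h).obj ((EtDual.locCoh j p).obj F))) := by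
  let k := (FEt.puncturedSpec R).ι
  by_cases hy' : h.base (closedPoint R) ∈ Set.range j.base
  · refine ⟨fun a b _ => (isZero_pull_locCoh_of_univ j D ?_ F p).eq_of_tgt a b⟩
    refine Set.eq_univ_of_forall fun t => ?_
    rw [Scheme.Pullback.range_fst]
    exact ((IsLocalRing.specializes_closedPoint t).map h.continuous).mem_open j.isOpenEmbedding.isOpen_range hy'
  · let j' := pullback.fst h j
    let G := (EtCoh.pull h).obj F
    haveI := LocCohLib.pull_additive h
    haveI := LocCohLib.secSupp_preservesInjective j'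
    haveI := LocCohLib.secSupp_preservesFiniteLimits k
    obtain ⟨e⟩ := nonempty_locCoh_pull_iso j D p
    have hlow' : ∀ q, q < p → IsZero ((EtDual.locCoh j' q).obj G) := fun q hq => by
      obtain ⟨eq⟩ := nonempty_locCoh_pull_iso j D q
      exact ((EtCoh.pull h).map_isZero (hlow q hq)).of_iso (eq.app F).symm
    haveI := isIso_edgeOut (EtDual.secSupp k) (EtDual.secSupp j') G p hlow'
    let c : EtDual.secSupp j' ⋙ EtDual.secSupp k ≅ EtDual.secSupp k :=
      secSuppCompIso j' k fun ψ => pull_map_eq_zero_of_factor j' k (range_subset_punctured j hy') ψ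
    have h0 : IsZero (((EtDual.secSupp j' ⋙ EtDual.secSupp k).rightDerived p).obj G) :=
      (hy.resolve_left hy').of_iso ((RDer.rightDerivedIso c p).app G)
    have h1 : IsZero ((EtDual.secSupp k).obj ((EtDual.locCoh j' p).obj G)) :=
      h0.of_iso (asIso (RDer.edgeOut (EtDual.secSupp j') (EtDual.secSupp k) p G)).symm
    exact Preadditive.mono_of_kernel_zero ((h1.of_iso ((EtDual.secSupp k).mapIso (e.app F))).eq_of_src _ _)

end Local

theorem eq_zero_of_mono_unit (H : EtCoh.Ab X) (V : X.Etale) (s : H.obj.obj (op V))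
    (hH : ∀ (y : X) (R : Type u) [CommRing R] [IsLocalRing R] [Algebra (X.presheaf.stalk y) R]
      [IsLocalHom (algebraMap (X.presheaf.stalk y) R)] [_root_.Hensel.IsStrictHenselization (X.presheaf.stalk y) R],
      Mono (EtDual.unitApp (FEt.puncturedSpec R).ι ((EtCoh.pull (Hens2.specOf X y R)).obj H))) : s = 0 := by
  refine eq_zero_of_germs s fun Ω₀ _ _ ξ₀ z₀ => ?_
  by_contra hne
  obtain ⟨η, hη, hmax⟩ := exists_max_point (isClosed_germSupp H V s) ⟨ptOf z₀, (mem_germSupp_iff s z₀).2 hne⟩
  let y : X := V.hom.base η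
  obtain ⟨R, _, _, _, _, hR⟩ := BcQCalc.exists_strictHens (X.presheaf.stalk y)
  haveI : IsSepClosed (ResidueField R) := BcQCalc.isSepClosed_residueField_of_strict (X.presheaf.stalk y) R
  haveI : HenselianLocalRing R := _root_.Hensel.IsStrictHenselization.henselian (R := X.presheaf.stalk y)
  let h := Hens2.specOf X y R
  have hclosed : h.base (closedPoint R) = y := LocAcycLib.specOf_closedPoint X y R
  have hval : V.hom.base η = (cpt R ≫ h).base (default : Spec (CommRingCat.of (ResidueField R))) := by
    rw [Scheme.Hom.comp_apply, cpt_base, hclosed]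
  haveI : AlgebraicGeometry.Etale V.hom := V.prop
  obtain ⟨u, hu, huη⟩ := Scheme.exists_fac_of_etale_of_isSepClosed V.hom (cpt R ≫ h) η hval
  let Z := (EtCoh.bc h).obj V
  haveI : AlgebraicGeometry.Etale Z.hom := Z.prop
  obtain ⟨σ, ⟨hσ, hσc⟩, -⟩ := existsUnique_section R Z.hom (pullback.lift u (cpt R) hu) (pullback.lift_snd _ _ _)
  let g : EtCoh.top (Spec (CommRingCat.of R)) ⟶ Z := MorphismProperty.Over.homMk σ hσ
  let G := (EtCoh.pull h).obj H
  let a : G.obj.obj (op Z) := ((EtCoh.pullPushAdj h).unit.app H).hom.app (op V) s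
  let sR := G.obj.map g.op a
  have germ_iff : ∀ {Ω : Type u} [Field Ω] [IsSepClosed Ω] {ζ : Spec (CommRingCat.of Ω) ⟶ Spec (CommRingCat.of R)}
      (t : (Scheme.pointSmallEtale ζ).fiber.obj (EtCoh.top (Spec (CommRingCat.of R)))),
      (Scheme.pointSmallEtale ζ).toPresheafFiber _ t G.obj sR = 0 ↔
        (bcFst h V).base (σ.base (ptOf t)) ∉ germSupp H V s := fun {Ω} _ _ {ζ} t => by
    rw [(Scheme.pointSmallEtale ζ).toPresheafFiber_w_apply]
    refine (germ_unit_eq_zero_iff h H s _).trans ?_
    have e := mem_germSupp_iff s (bcFiberEquiv h ζ V ((Scheme.pointSmallEtale ζ).fiber.map g t))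
    rw [ptOf_bcFiberEquiv, ptOf_map] at e
    exact (not_not.symm.trans (not_congr e.symm))
  let k := (FEt.puncturedSpec R).ι
  have e1 : cpt R ≫ σ ≫ bcFst h V = u := by rw [reassoc_of% hσc]; exact pullback.lift_fst _ _ _
  have hσu : (bcFst h V).base (σ.base (closedPoint R)) = η := by
    have := congrArg (fun f : Spec (CommRingCat.of (ResidueField R)) ⟶ V.left =>
      f.base (default : Spec (CommRingCat.of (ResidueField R)))) e1
    exact (congrArg (fun x => (bcFst h V).base (σ.base x)) (cpt_base R default).symm).trans (this.trans huη)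
  have e2 : (σ ≫ bcFst h V) ≫ V.hom = h := by
    rw [Category.assoc, bcFst_w, ← Category.assoc, hσ, Category.id_comp]
  have hσh : ∀ w, V.hom.base ((bcFst h V).base (σ.base w)) = h.base w := fun w =>
    congrArg (fun f : Spec (CommRingCat.of R) ⟶ X => f.base w) e2
  have hzero : (EtDual.unitApp k G).hom.app (op (EtCoh.top (Spec (CommRingCat.of R)))) sR = 0 := by
    refine eq_zero_of_germs (F := (EtCoh.pull k).obj G) (V := (EtCoh.bc k).obj (EtCoh.top (Spec (CommRingCat.of R)))) _ fun Ω _ _ ζ t => (germ_unit_eq_zero_iff k G sR t).2 ((germ_iff _).2 fun hmem => ?_)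
    let w : Spec (CommRingCat.of R) := ptOf (bcFiberEquiv k ζ (EtCoh.top (Spec (CommRingCat.of R))) t)
    change (bcFst h V).base (σ.base w) ∈ germSupp H V s at hmem
    have hspec : (bcFst h V).base (σ.base w) ⤳ η := by
      rw [← hσu]
      exact ((IsLocalRing.specializes_closedPoint w).map σ.continuous).map (bcFst h V).continuous
    have hwy : h.base w = y := (hσh w).symm.trans (congrArg V.hom.base (hmax _ hmem hspec))
    have hwc : w = closedPoint R := by
      let O := X.presheaf.stalk y
      have h2 : (Spec.map (CommRingCat.ofHom (algebraMap O R))).base w = closedPoint O := by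
        refine (X.fromSpecStalk y).isEmbedding.injective ?_
        refine Eq.trans ?_ Scheme.fromSpecStalk_closedPoint.symm
        exact hwy
      refine PrimeSpectrum.ext ((IsLocalRing.maximalIdeal.isMaximal R).eq_of_le w.2.ne_top ?_).symm
      rw [← S0538.result O R, Ideal.map_le_iff_le_comap]
      exact (congrArg PrimeSpectrum.asIdeal h2).ge
    have hrange : w ∈ Set.range k.base := by
      refine ⟨ζ.base default, ?_⟩
      have := hom_ptOf (bcFiberEquiv k ζ (EtCoh.top (Spec (CommRingCat.of R))) t)
      exact ((Scheme.Hom.comp_apply _ _ _).symm.trans this.symm)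
    rw [Scheme.Opens.range_ι] at hrange
    exact hrange hwc
  haveI := hH y R
  haveI : Mono ((EtDual.unitApp k G).hom) :=
    inferInstanceAs (Mono ((sheafToPresheaf _ _).map (EtDual.unitApp k G)))
  have hinj := (AddCommGrpCat.mono_iff_injective ((EtDual.unitApp k G).hom.app
    (op (EtCoh.top (Spec (CommRingCat.of R)))))).1 inferInstance
  have hsR : sR = 0 := hinj (hzero.trans (map_zero _).symm)
  refine ((germ_iff (cptTop R)).1 (by rw [hsR, map_zero])) ?_
  have e3 : ptOf (cptTop R) = closedPoint R := cpt_base R default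
  rw [e3, hσu]
  exact hη

theorem depthGE_iff_depthAtGE (F : EtCoh.Ab X) (n : ℕ) :
    EtDepth.DepthGE j F n ↔ ∀ y : X, y ∉ Set.range j.base → EtDepth.DepthAtGE X F y n := by
  constructor
  · intro hF y hy R _ _ _ _ _
    obtain ⟨D⟩ := exists_model X y R
    exact depthGE_pull j D (by rwa [LocAcycLib.specOf_closedPoint]) F n hF
  · intro hd p hp
    induction p using Nat.strong_induction_on with
    | _ p ih =>
      rw [IsZero.iff_id_eq_zero]
      refine Sheaf.hom_ext (NatTrans.ext (funext fun V => AddCommGrpCat.hom_ext (AddMonoidHom.ext fun s => ?_)))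
      refine (eq_zero_of_mono_unit _ V.unop s fun y R _ _ _ _ _ => ?_).trans rfl
      obtain ⟨D⟩ := exists_model X y R
      refine mono_unit_pull_locCoh j D F p (fun q hq => ih q hq (hq.trans hp)) ?_
      rw [LocAcycLib.specOf_closedPoint]
      by_cases hy : y ∈ Set.range j.base
      · exact Or.inl hy
      · exact Or.inr (hd y hy R p hp)

end Groth.Agent.DepthPt5
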