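import Groth.Agent.RpushStalk.Model
import Groth.Agent.RpushStalk.BaseSys
import Groth.Agent.BcLim5.Main
import Groth.Agent.BcQCalc.EtaleBC
import Groth.Agent.H0FBC.LimitSections

/-! higher direct images commute with base change to strict localizations -/

set_option autoImplicit false
set_option linter.unusedSectionVars false
set_option linter.style.haveILetI false
set_option backward.isDefEq.respectTransparency false
set_option backward.isDefEq.respectTransparency.types false

universe u

open CategoryTheory CategoryTheory.Limits AlgebraicGeometry Opposite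

attribute [-instance] CategoryTheory.catToReflQuiver

noncomputable section

namespace Groth.Agent.DepthPt5

open RpushStalk H0PBC H0FBC EtLim8
open Groth.Agent.Hensel (Henz Nbhd NbhdCat)

attribute [local instance] EtFound.pull_preservesFiniteLimits

variable {S T : Scheme.{u}} {R : Type u} [CommRing R] {h : Spec (CommRingCat.of R) ⟶ S}

theorem isIso_bcQ_ym (D : Model S R h) (g : T ⟶ S) [QuasiCompact g] [QuasiSeparated g] (G : EtCoh.Ab T) (q : ℕ) :
    IsIso (EtBC.bcQ g (ym D.ι R) (pullback.fst (ym D.ι R) g) (pullback.snd (ym D.ι R) g)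
      pullback.condition.symm q G) := by
  obtain ⟨α, _, _, _, F, _⟩ := IsFiltered.exists_directed (NbhdCat D.B D.Ω)
  haveI : IsConnected αᵒᵖ := IsCofiltered.isConnected _
  let Xs : αᵒᵖ ⥤ Scheme.{u} := (F ⋙ Hensel.nbhdDiagram D.B D.Ω ⋙ CategoryTheory.Under.forget _).op ⋙ Scheme.Spec
  let Ss : αᵒᵖ ⥤ Scheme.{u} := (Functor.const αᵒᵖ).obj S
  let Ts : αᵒᵖ ⥤ Scheme.{u} := (Functor.const αᵒᵖ).obj T
  let fN : Xs ⟶ Ss :=
    { app := fun a => ym D.ι (F.obj a.unop).N.B
      naturality := fun a b m => (spec_map_ym D.ι (F.map m.unop).1).trans (Category.comp_id _).symm }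
  let gN : Ts ⟶ Ss := { app := fun _ => g, naturality := fun a b m => (Category.id_comp g).trans (Category.comp_id g).symm }
  let hN : D.stages g F ⟶ Xs :=
    { app := fun a => pullback.fst (ym D.ι (F.obj a.unop).N.B) g
      naturality := fun _ _ m => pmap_fst g D.ι (F.map m.unop).1 }
  let eN : D.stages g F ⟶ Ts :=
    { app := fun a => pullback.snd (ym D.ι (F.obj a.unop).N.B) g
      naturality := fun _ _ m => (pmap_snd g D.ι (F.map m.unop).1).trans (Category.comp_id _).symm }
  haveI hAX : ∀ {a b : αᵒᵖ} (m : a ⟶ b), IsAffineHom (Xs.map m) := fun m =>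
    inferInstanceAs (IsAffineHom (Spec.map _))
  haveI hAS : ∀ {a b : αᵒᵖ} (m : a ⟶ b), IsAffineHom (Ss.map m) := fun m =>
    inferInstanceAs (IsAffineHom (𝟙 S))
  haveI hAT : ∀ {a b : αᵒᵖ} (m : a ⟶ b), IsAffineHom (Ts.map m) := fun m =>
    inferInstanceAs (IsAffineHom (𝟙 T))
  haveI hAY : ∀ {a b : αᵒᵖ} (m : a ⟶ b), IsAffineHom ((D.stages g F).map m) := fun m =>
    D.isAffineHom_stages g F m
  let cX : Cone Xs := Scheme.Spec.mapCone (D.cocone F).op
  let cS : Cone Ss := constCone αᵒᵖ S
  let cT : Cone Ts := constCone αᵒᵖ T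
  let Sy : Sys Ts := baseSys (Xs := Ts) (fun _ => 𝟙 T) (fun i j hij => Category.comp_id _) G
  have hU : Sy.IsUnital := baseSys_isUnital (Xs := Ts) (fun _ => 𝟙 T) _ G
  have key := BcLim5.isIso_bcQ_limit (cX := cX) (cS := cS) (cT := cT) (cY := D.cone g F) (f := ym D.ι R) (g := g)
    (h := pullback.fst (ym D.ι R) g) (e := pullback.snd (ym D.ι R) g) fN gN hN eN
    (fun i => pullback.condition.symm) q Sy
    (fun i => (spec_map_ym D.ι (D.gR (F.obj i).N)).trans (Category.comp_id _).symm)
    (fun i => (Category.id_comp g).trans (Category.comp_id g).symm)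
    (fun i => pmap_fst g D.ι (D.gR (F.obj i).N))
    (fun i => (pmap_snd g D.ι (D.gR (F.obj i).N)).trans (Category.comp_id _).symm)
    pullback.condition.symm (fun _ => inferInstanceAs (QuasiCompact g)) (fun _ => inferInstanceAs (QuasiSeparated g))
    (fun a => inferInstanceAs (QuasiCompact (pullback.fst _ g)))
    (fun a => inferInstanceAs (QuasiSeparated (pullback.fst _ g)))
    (isLimitOfPreserves Scheme.Spec (D.isColimitCocone F).op) (isLimitConstCone αᵒᵖ S) (isLimitConstCone αᵒᵖ T)
    (D.isLimitCone g F) hU (fun i => by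
      haveI : AlgebraicGeometry.Etale (ym D.ι (F.obj i).N.B) := (stageEt D.ι (F.obj i).N.B).prop
      exact BcQCalc.isIso_bcQ_of_etale (ym D.ι (F.obj i).N.B) g (pullback.fst _ g) (pullback.snd _ g)
        (IsPullback.of_hasPullback (ym D.ι (F.obj i).N.B) g).flip (Sy.F i) q)
  haveI := isIso_baseColimHom (Xs := Ts) (fun _ => 𝟙 T) (fun i j hij => Category.comp_id _) G cT (𝟙 T)
    (fun i => Category.comp_id _)
  exact BcLim5.isIso_bcQ_of_iso _ _ q ((EtDescSplit.pullId T).app G).symm
    (BcLim5.isIso_bcQ_of_iso _ _ q (asIso (baseColimHom (Xs := Ts) (fun _ => 𝟙 T) (fun i j hij => Category.comp_id _) G cT (𝟙 T)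
      (fun i => Category.comp_id _))).symm key)

/-- base change along a strict localization -/
theorem isIso_bcQ_model (D : Model S R h) (g : T ⟶ S) [QuasiCompact g] [QuasiSeparated g] (G : EtCoh.Ab T) (q : ℕ) :
    IsIso (EtBC.bcQ g h (pullback.fst h g) (pullback.snd h g) pullback.condition.symm q G) := by
  have := isIso_bcQ_ym D g G q
  obtain ⟨B, Ω, ι, e, fac⟩ := D
  subst fac
  exact this

end Groth.Agent.DepthPt5
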