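import Groth.Agent.DepthPt5.BaseChange
import Groth.Agent.LocCohLib.OpenSES
import Groth.Agent.LocCohLib.SecSupp
import Groth.Agent.EtFound.PushImm
import Groth.Agent.SiteBase.DerivedPrecompAcyclic
import Groth.Agent.SiteBase.DerivedComp
import Groth.Agent.SiteBase.Rpush

/-! local cohomology sheaves commute with base change to strict localizations -/

set_option autoImplicit false
set_option linter.unusedSectionVars false
set_option linter.style.haveILetI false
set_option backward.isDefEq.respectTransparency false
set_option backward.isDefEq.respectTransparency.types false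

universe u

open CategoryTheory CategoryTheory.Limits AlgebraicGeometry Opposite

noncomputable section

namespace Groth.Agent.DepthPt5

open RpushStalk Groth.Agent.LocCohLib

attribute [local instance] EtFound.pull_preservesFiniteLimits

variable {X U : Scheme.{u}} (j : U ⟶ X) [IsOpenImmersion j] [QuasiCompact j] {R : Type u} [CommRing R]
  {h : Spec (CommRingCat.of R) ⟶ X} (D : Model X R h)

include D in
theorem isIso_bc0 (F : EtCoh.Ab U) :
    IsIso (EtCoh.baseChange0 j h (pullback.fst h j) (pullback.snd h j) pullback.condition.symm F) := by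
  obtain ⟨φ, hφ⟩ := BcQCalc.exists_pullHom (pullback.snd h j) F
  haveI := BcQCalc.isIso_pic_zero (EtCoh.push j) F
  haveI := BcQCalc.isIso_pic_zero (EtCoh.push (pullback.fst h j)) ((EtCoh.pull (pullback.snd h j)).obj F)
  haveI := isIso_bcQ_model D j F 0
  haveI : IsIso (φ.z 0) := by
    have : IsIso ((EtCoh.pull (pullback.snd h j)).map (BcQCalc.aug F) ≫ φ.z 0) := by rw [hφ]; infer_instance
    exact IsIso.of_isIso_comp_left ((EtCoh.pull (pullback.snd h j)).map (BcQCalc.aug F)) _
  have e := BcQCalc.bcQ_pic j h (pullback.fst h j) (pullback.snd h j) pullback.condition.symm F φ hφ 0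
  have h1 : IsIso (EtCoh.baseChange0 j h (pullback.fst h j) (pullback.snd h j) pullback.condition.symm
      ((BcQCalc.tw F).Z 0) ≫ (EtCoh.push (pullback.fst h j)).map (φ.z 0) ≫
        BcQCalc.pic (EtCoh.push (pullback.fst h j)) ((EtCoh.pull (pullback.snd h j)).obj F) 0) := by
    rw [← e]; infer_instance
  haveI := IsIso.of_isIso_comp_right (EtCoh.baseChange0 j h (pullback.fst h j) (pullback.snd h j)
    pullback.condition.symm ((BcQCalc.tw F).Z 0)) ((EtCoh.push (pullback.fst h j)).map (φ.z 0) ≫
      BcQCalc.pic (EtCoh.push (pullback.fst h j)) ((EtCoh.pull (pullback.snd h j)).obj F) 0)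
  have n := BcQCalc.baseChange0_naturality j h (pullback.fst h j) (pullback.snd h j) pullback.condition.symm
    (BcQCalc.aug F)
  have h2 : IsIso (EtCoh.baseChange0 j h (pullback.fst h j) (pullback.snd h j) pullback.condition.symm F ≫
      (EtCoh.push (pullback.fst h j)).map ((EtCoh.pull (pullback.snd h j)).map (BcQCalc.aug F))) := by
    rw [← n]; infer_instance
  exact IsIso.of_isIso_comp_right _ ((EtCoh.push (pullback.fst h j)).map ((EtCoh.pull (pullback.snd h j)).map (BcQCalc.aug F)))

/-- the two composites of inverse images -/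
def pullSquare : EtCoh.pull h ⋙ EtCoh.pull (pullback.fst h j) ≅ EtCoh.pull j ⋙ EtCoh.pull (pullback.snd h j) :=
  (EtCore.pullComp (pullback.fst h j) h).symm ≪≫ EtCore.pullCongr pullback.condition ≪≫
    EtCore.pullComp (pullback.snd h j) j

theorem isIso_pull_unit {X' U' : Scheme.{u}} (j' : U' ⟶ X') [IsOpenImmersion j'] (G : EtCoh.Ab X') :
    IsIso ((EtCoh.pull j').map (EtDual.unitApp j' G)) :=
  haveI := EtFound.counit_isIso (A := AddCommGrpCat.{u + 1}) j' (EtFound.liftable_of_isOpenImmersion j')
    ((EtCoh.pull j').obj G)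
  @IsIso.of_isIso_fac_right _ _ _ _ _ _ _ _ this (IsIso.id _) ((EtCoh.pullPushAdj j').left_triangle_components G)

/-- the unit of `j` on the base change -/
abbrev bcUnit (F : EtCoh.Ab X) : (EtCoh.pull h).obj F ⟶
    (EtCoh.push (pullback.fst h j)).obj ((EtCoh.pull (pullback.snd h j)).obj ((EtCoh.pull j).obj F)) :=
  (EtCoh.pull h).map (EtDual.unitApp j F) ≫
    EtCoh.baseChange0 j h (pullback.fst h j) (pullback.snd h j) pullback.condition.symm ((EtCoh.pull j).obj F)

theorem map_kernel_zero (F : EtCoh.Ab X) :
    (EtCoh.pull h).map (kernel.ι (EtDual.unitApp j F)) ≫ EtDual.unitApp (pullback.fst h j) ((EtCoh.pull h).obj F) = 0 := by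
  refine (comp_unitApp_eq_zero_iff (pullback.fst h j) _).2 ?_
  have h0 : (EtCoh.pull j).map (kernel.ι (EtDual.unitApp j F)) = 0 :=
    (comp_unitApp_eq_zero_iff j _).1 (kernel.condition _)
  haveI := LocCohLib.pull_additive (pullback.snd h j)
  refine (cancel_mono ((pullSquare (h := h) j).hom.app F)).1 ?_
  refine ((pullSquare (h := h) j).hom.naturality _).trans ?_
  rw [Functor.comp_map, h0, Functor.map_zero, comp_zero, zero_comp]

include D in
theorem kernel_map_unit_zero (F : EtCoh.Ab X) :
    kernel.ι (EtDual.unitApp (pullback.fst h j) ((EtCoh.pull h).obj F)) ≫ (EtCoh.pull h).map (EtDual.unitApp j F) = 0 := by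
  haveI := isIso_bc0 j D ((EtCoh.pull j).obj F)
  haveI := LocCohLib.pull_additive (pullback.fst h j)
  refine (cancel_mono (EtCoh.baseChange0 j h (pullback.fst h j) (pullback.snd h j) pullback.condition.symm
    ((EtCoh.pull j).obj F))).1 ?_
  rw [Category.assoc, zero_comp]
  refine ((EtCoh.pullPushAdj (pullback.fst h j)).homEquiv _ _).symm.injective ?_
  rw [Adjunction.homEquiv_naturality_left_symm, (comp_unitApp_eq_zero_iff (pullback.fst h j) _).1 (kernel.condition _),
    zero_comp, Adjunction.homEquiv_counit, Functor.map_zero, zero_comp]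

/-- sections with support commute with base change to strict localizations -/
def secSuppComm : EtDual.secSupp j ⋙ EtCoh.pull h ≅ EtCoh.pull h ⋙ EtDual.secSupp (pullback.fst h j) :=
  haveI := LocCohLib.pull_additive h
  NatIso.ofComponents (fun F =>
    { hom := kernel.lift _ ((EtCoh.pull h).map (kernel.ι (EtDual.unitApp j F))) (map_kernel_zero j F)
      inv := kernel.lift _ (kernel.ι (EtDual.unitApp (pullback.fst h j) ((EtCoh.pull h).obj F)))
          (kernel_map_unit_zero j D F) ≫ (PreservesKernel.iso (EtCoh.pull h) (EtDual.unitApp j F)).inv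
      hom_inv_id := by
        haveI : Mono ((EtCoh.pull h).map (kernel.ι (EtDual.unitApp j F))) := inferInstance
        rw [← cancel_mono ((EtCoh.pull h).map (kernel.ι (EtDual.unitApp j F)))]
        simp
      inv_hom_id := by
        rw [← cancel_mono (kernel.ι _)]
        simp })
    (fun {F F'} f => by
      rw [← cancel_mono (kernel.ι _)]
      simp [← Functor.map_comp])

include D in
theorem epi_unit_pull (I : EtCoh.Ab X) [Injective I] :
    Epi (EtDual.unitApp (pullback.fst h j) ((EtCoh.pull h).obj I)) := by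
  haveI := isIso_bc0 j D ((EtCoh.pull j).obj I)
  haveI : Epi (EtDual.unitApp j I) := (splitEpiUnit j I).epi
  haveI : PreservesColimitsOfSize.{0, 0} (EtCoh.pull h) := (EtCoh.pullPushAdj h).leftAdjoint_preservesColimits
  haveI : Epi ((EtCoh.pull h).map (EtDual.unitApp j I)) := inferInstance
  haveI he : Epi (bcUnit (h := h) j I) := epi_comp _ _
  let j' := pullback.fst h j
  let m := ((EtCoh.pullPushAdj j').homEquiv _ _).symm (bcUnit (h := h) j I)
  have hm : EtDual.unitApp j' ((EtCoh.pull h).obj I) ≫ (EtCoh.push j').map m = bcUnit (h := h) j I :=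
    ((EtCoh.pullPushAdj j').homEquiv_unit _ _ _).symm.trans (Equiv.apply_symm_apply _ _)
  haveI : IsIso ((EtCoh.pull j').map ((EtCoh.pull h).map (EtDual.unitApp j I))) := by
    haveI := isIso_pull_unit j I
    refine (NatIso.isIso_map_iff (pullSquare (h := h) j) (EtDual.unitApp j I)).2 ?_
    show IsIso ((EtCoh.pull (pullback.snd h j)).map ((EtCoh.pull j).map (EtDual.unitApp j I)))
    infer_instance
  haveI := EtFound.counit_isIso (A := AddCommGrpCat.{u + 1}) j' (EtFound.liftable_of_isOpenImmersion j')
    ((EtCoh.pull (pullback.snd h j)).obj ((EtCoh.pull j).obj I))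
  haveI : IsIso m := by
    show IsIso (((EtCoh.pullPushAdj j').homEquiv _ _).symm (bcUnit (h := h) j I))
    rw [Adjunction.homEquiv_counit, Functor.map_comp, Category.assoc]
    infer_instance
  have : EtDual.unitApp j' ((EtCoh.pull h).obj I) = bcUnit (h := h) j I ≫ inv ((EtCoh.push j').map m) := by
    rw [IsIso.eq_comp_inv, hm]
  rw [show EtDual.unitApp (pullback.fst h j) ((EtCoh.pull h).obj I) = _ from this]
  infer_instance

include D in
theorem isZero_locCoh_pull_injective (I : EtCoh.Ab X) [Injective I] (i : ℕ) :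
    IsZero ((EtDual.locCoh (pullback.fst h j) (i + 1)).obj ((EtCoh.pull h).obj I)) := by
  obtain ⟨⟨e₁⟩, e₂⟩ := locCoh_succ_iso (pullback.fst h j) ((EtCoh.pull h).obj I)
  rcases i with _ | i
  · haveI := epi_unit_pull j D I
    exact (isZero_cokernel_of_epi _).of_iso e₁.symm
  · obtain ⟨e⟩ := e₂ (i + 1) (by omega)
    obtain ⟨f⟩ := (locCoh_succ_iso j I).2 (i + 1) (by omega)
    have hz : IsZero ((EtCoh.Rpush j (i + 1)).obj ((EtCoh.pull j).obj I)) :=
      (Functor.isZero_rightDerived_obj_injective_succ (EtDual.secSupp j) (i + 1) I).of_iso f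
    haveI := isIso_bcQ_model D j ((EtCoh.pull j).obj I) (i + 1)
    haveI := LocCohLib.pull_additive h
    have h1 := ((EtCoh.pull h).map_isZero hz).of_iso (asIso (EtBC.bcQ j h (pullback.fst h j) (pullback.snd h j)
      pullback.condition.symm (i + 1) ((EtCoh.pull j).obj I))).symm
    exact (h1.of_iso ((EtCoh.Rpush (pullback.fst h j) (i + 1)).mapIso ((pullSquare (h := h) j).app I))).of_iso e.symm

include D in
/-- local cohomology sheaves commute with base change to strict localizations -/
theorem nonempty_locCoh_pull_iso (p : ℕ) :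
    Nonempty (EtDual.locCoh j p ⋙ EtCoh.pull h ≅ EtCoh.pull h ⋙ EtDual.locCoh (pullback.fst h j) p) := by
  haveI := LocCohLib.pull_additive h
  haveI := LocCohLib.secSupp_preservesFiniteLimits (pullback.fst h j)
  haveI : PreservesFiniteColimits (EtCoh.pull h) :=
    haveI := (EtCoh.pullPushAdj h).leftAdjoint_preservesColimits; inferInstance
  obtain ⟨e⟩ := SiteBase.nonempty_rightDerived_precomp_of_acyclic (EtCoh.pull h) (EtDual.secSupp (pullback.fst h j))
    (fun Q hQ i => isZero_locCoh_pull_injective j D Q i) p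
  exact ⟨(SiteBase.rightDerivedCompIso (EtDual.secSupp j) (EtCoh.pull h) p).symm ≪≫
    SiteBase.rightDerivedCongr (secSuppComm j D) p ≪≫ e⟩

end Groth.Agent.DepthPt5
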